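import Mathlib
import Cfsg.Agent.H686.CharKit
import Cfsg.Agent.H700.DM.Defs

/-!
# S4907, task DM30: characters nontrivial on the centre (helper245)

`exists_irr_of_sameDeg`: if `G`, `H` have the same degrees and isomorphic central quotients, an irreducible character of
`G` which is not trivial on the centre has a partner of the same degree in `H` not trivial on the centre of `H`.
-/

set_option autoImplicit false

namespace Cfsg.Agent.H245.DM

open Cfsg Cfsg.Agent.Characters Cfsg.Agent.H686.CharKit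
open Cfsg.Agent.H700.DM (SameDeg)

universe u v

/-- transport of irreducible characters -/
def irrCongr {G : Type u} {H : Type v} [Group G] [Group H] (e : G ≃* H) : IrrCharacter G ≃ IrrCharacter H where
  toFun χ := ⟨(χ : G → ℂ) ∘ e.symm.toMonoidHom, Core.isIrr_comp e.symm.toMonoidHom e.symm.surjective χ.2⟩
  invFun ψ := ⟨(ψ : H → ℂ) ∘ e.toMonoidHom, Core.isIrr_comp e.toMonoidHom e.surjective ψ.2⟩
  left_inv χ := Subtype.ext (funext fun g => congrArg (χ : G → ℂ) (e.symm_apply_apply g))
  right_inv ψ := Subtype.ext (funext fun g => congrArg (ψ : H → ℂ) (e.apply_symm_apply g))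

theorem charDegree_irrCongr {G : Type u} {H : Type v} [Group G] [Group H] (e : G ≃* H) (χ : IrrCharacter G) :
    charDegree (irrCongr e χ : H → ℂ) = charDegree (χ : G → ℂ) := by
  show ⌊((χ : G → ℂ) (e.symm 1)).re⌋₊ = ⌊((χ : G → ℂ) 1).re⌋₊
  rw [map_one]

theorem charDegree_inflEquiv {G : Type u} [Group G] [Finite G] (N : Subgroup G) [N.Normal] (ψ : IrrCharacter (G ⧸ N)) :
    charDegree ((inflEquiv N ψ).1 : G → ℂ) = charDegree (ψ : G ⧸ N → ℂ) := rfl

/-- the irreducible characters of degree `d` -/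
abbrev IrrD (d : ℕ) (G : Type u) [Group G] : Type u := {χ : IrrCharacter G // charDegree (χ : G → ℂ) = d}

/-- the irreducible characters of degree `d` trivial on the centre -/
noncomputable def irrDEquiv (d : ℕ) (G : Type u) [Group G] [Finite G] (N : Subgroup G) [N.Normal] :
    IrrD d (G ⧸ N) ≃ {χ : IrrD d G // N ≤ chKer χ.1} where
  toFun ψ := ⟨⟨(inflEquiv N ψ.1).1, ψ.2⟩, (inflEquiv N ψ.1).2⟩
  invFun χ := ⟨(inflEquiv N).symm ⟨χ.1.1, χ.2⟩, by
    rw [← charDegree_inflEquiv, Equiv.apply_symm_apply]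
    exact χ.1.2⟩
  left_inv ψ := Subtype.ext ((inflEquiv N).symm_apply_apply ψ.1)
  right_inv χ := by
    apply Subtype.ext
    apply Subtype.ext
    have h := congrArg Subtype.val ((inflEquiv N).apply_symm_apply ⟨χ.1.1, χ.2⟩)
    exact h

theorem exists_irr_of_sameDeg {G : Type u} {H : Type v} [Group G] [Finite G] [Group H] [Finite H] (h : SameDeg G H)
    (e : G ⧸ Subgroup.center G ≃* H ⧸ Subgroup.center H) (χ : IrrCharacter G) (hχ : ¬ Subgroup.center G ≤ chKer χ) :
    ∃ χ' : IrrCharacter H, charDegree (χ' : H → ℂ) = charDegree (χ : G → ℂ) ∧ ¬ Subgroup.center H ≤ chKer χ' := by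
  by_contra hcon
  push Not at hcon
  obtain ⟨f, hf⟩ := h
  set d := charDegree (χ : G → ℂ) with hd
  have : Finite (IrrCharacter G) := Core.finite_irr
  have : Finite (IrrCharacter H) := Core.finite_irr
  have e1 : Nat.card (IrrD d G) = Nat.card (IrrD d H) :=
    Nat.card_congr (f.subtypeEquiv fun χ => by rw [hf])
  have e2 : Nat.card (IrrD d (G ⧸ Subgroup.center G)) = Nat.card (IrrD d (H ⧸ Subgroup.center H)) :=
    Nat.card_congr ((irrCongr e).subtypeEquiv fun χ => by rw [charDegree_irrCongr])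
  rw [Nat.card_congr (irrDEquiv d G (Subgroup.center G)), Nat.card_congr (irrDEquiv d H (Subgroup.center H))] at e2
  have e3 : Nat.card {χ : IrrD d H // Subgroup.center H ≤ chKer χ.1} = Nat.card (IrrD d H) :=
    Nat.card_congr (Equiv.subtypeUnivEquiv fun χ => hcon χ.1 χ.2)
  have e4 : Nat.card {χ : IrrD d G // Subgroup.center G ≤ chKer χ.1} < Nat.card (IrrD d G) := by
    refine Finite.card_subtype_lt (x := ⟨χ, rfl⟩) ?_
    exact hχ
  omega

end Cfsg.Agent.H245.DM
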