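import Mathlib
import Cfsg.Agent.H686.CharKit

/-!
# S4907, task DM30: representations with anticommuting pairs (helper245)

`pow_dvd_charDegree`: if `z` is a central involution of `H` and `x i`, `y i` (`i < N`) are elements of square `z` with
`x i * y i = z * (y i * x i)` and such that `x i` commutes with `x j`, `y j` for `i < j`, then `2 ^ N` divides the degree
of every irreducible character `χ` of `H` with `χ z = - χ 1`.
-/

set_option autoImplicit false

namespace Cfsg.Agent.H245.DM

open Module

universe u

theorem finrank_eq_two_mul {W : Type u} [AddCommGroup W] [Module ℂ W] [FiniteDimensional ℂ W] (X Y : Module.End ℂ W)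
    (hX : X * X = -1) (hY : Y * Y = -1) (hXY : X * Y = -(Y * X)) :
    finrank ℂ W = 2 * finrank ℂ (LinearMap.ker (X - Complex.I • (1 : Module.End ℂ W))) := by
  have hXX : ∀ w, X (X w) = -w := fun w => by
    have := LinearMap.congr_fun hX w
    simpa using this
  have hYY : ∀ w, Y (Y w) = -w := fun w => by
    have := LinearMap.congr_fun hY w
    simpa using this
  have hXYw : ∀ w, X (Y w) = -(Y (X w)) := fun w => by
    have := LinearMap.congr_fun hXY w
    simpa using this
  set P := LinearMap.ker (X - Complex.I • (1 : Module.End ℂ W)) with hP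
  set M := LinearMap.ker (X + Complex.I • (1 : Module.End ℂ W)) with hM
  have mP : ∀ w, w ∈ P ↔ X w = Complex.I • w := fun w => by
    rw [hP, LinearMap.mem_ker, LinearMap.sub_apply, LinearMap.smul_apply, Module.End.one_apply, sub_eq_zero]
  have mM : ∀ w, w ∈ M ↔ X w = -(Complex.I • w) := fun w => by
    rw [hM, LinearMap.mem_ker, LinearMap.add_apply, LinearMap.smul_apply, Module.End.one_apply, add_eq_zero_iff_eq_neg]
  have hII : Complex.I * Complex.I = -1 := Complex.I_mul_I
  have hc : IsCompl P M := by
    rw [isCompl_iff]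
    constructor
    · rw [Submodule.disjoint_def]
      intro w h1 h2
      have h3 := ((mP w).1 h1).symm.trans ((mM w).1 h2)
      have h4 : (2 * Complex.I) • w = 0 := by
        rw [two_mul, add_smul]
        nth_rewrite 1 [h3]
        rw [neg_add_cancel]
      exact (smul_eq_zero.1 h4).resolve_left (mul_ne_zero two_ne_zero Complex.I_ne_zero)
    · rw [codisjoint_iff, eq_top_iff]
      intro w _
      have e : w = (2 * Complex.I)⁻¹ • (X w + Complex.I • w) + (-(2 * Complex.I)⁻¹) • (X w - Complex.I • w) := by
        match_scalars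
        · field_simp
          norm_num
        · field_simp
          ring
      rw [e]
      refine Submodule.add_mem_sup (P.smul_mem _ ?_) (M.smul_mem _ ?_)
      · rw [mP, map_add, map_smul, hXX, smul_add, smul_smul, hII, neg_one_smul]
        abel
      · rw [mM, map_sub, map_smul, hXX, smul_sub, smul_smul, hII, neg_one_smul]
        abel
  have h1 := Submodule.finrank_add_eq_of_isCompl hc
  have yP : ∀ w ∈ P, Y w ∈ M := fun w hw => by
    rw [mM, hXYw, (mP w).1 hw, map_smul]
  have yM : ∀ w ∈ M, Y w ∈ P := fun w hw => by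
    rw [mP, hXYw, (mM w).1 hw, map_neg, map_smul, neg_neg]
  have yinj : Function.Injective Y := fun a b h => by
    have := congrArg Y h
    rw [hYY, hYY] at this
    exact neg_injective this
  have h2 : finrank ℂ P ≤ finrank ℂ M := by
    refine LinearMap.finrank_le_finrank_of_injective (f := Y.restrict yP) ?_
    intro a b h
    apply Subtype.ext
    apply yinj
    exact congrArg Subtype.val h
  have h3 : finrank ℂ M ≤ finrank ℂ P := by
    refine LinearMap.finrank_le_finrank_of_injective (f := Y.restrict yM) ?_
    intro a b h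
    apply Subtype.ext
    apply yinj
    exact congrArg Subtype.val h
  omega

theorem pow_dvd_finrank (N : ℕ) : ∀ (W : Type u) [AddCommGroup W] [Module ℂ W] [FiniteDimensional ℂ W]
    (X Y : ℕ → Module.End ℂ W), (∀ i < N, X i * X i = -1) → (∀ i < N, Y i * Y i = -1) →
    (∀ i < N, X i * Y i = -(Y i * X i)) → (∀ i j, i < j → j < N → X i * X j = X j * X i) →
    (∀ i j, i < j → j < N → X i * Y j = Y j * X i) → 2 ^ N ∣ finrank ℂ W := by
  induction N with
  | zero => intro W _ _ _ X Y _ _ _ _ _; simp
  | succ N ih =>
    intro W _ _ _ X Y hX hY hXY hcX hcY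
    rw [finrank_eq_two_mul (X 0) (Y 0) (hX 0 (by omega)) (hY 0 (by omega)) (hXY 0 (by omega)), pow_succ']
    apply Nat.mul_dvd_mul_left
    set P := LinearMap.ker (X 0 - Complex.I • (1 : Module.End ℂ W)) with hP
    have mP : ∀ w, w ∈ P ↔ X 0 w = Complex.I • w := fun w => by
      rw [hP, LinearMap.mem_ker, LinearMap.sub_apply, LinearMap.smul_apply, Module.End.one_apply, sub_eq_zero]
    have rX : ∀ i, i < N → ∀ w ∈ P, X (i + 1) w ∈ P := fun i hi w hw => by
      have h1 := LinearMap.congr_fun (hcX 0 (i + 1) (by omega) (by omega)) w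
      rw [Module.End.mul_apply, Module.End.mul_apply] at h1
      rw [mP, h1, (mP w).1 hw, map_smul]
    have rY : ∀ i, i < N → ∀ w ∈ P, Y (i + 1) w ∈ P := fun i hi w hw => by
      have h1 := LinearMap.congr_fun (hcY 0 (i + 1) (by omega) (by omega)) w
      rw [Module.End.mul_apply, Module.End.mul_apply] at h1
      rw [mP, h1, (mP w).1 hw, map_smul]
    classical
    let X' : ℕ → Module.End ℂ P := fun i => if h : i < N then (X (i + 1)).restrict (rX i h) else 0
    let Y' : ℕ → Module.End ℂ P := fun i => if h : i < N then (Y (i + 1)).restrict (rY i h) else 0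
    have eX : ∀ i (h : i < N) (w : P), ((X' i w : P) : W) = X (i + 1) w := fun i h w => by
      simp only [X', dif_pos h]
      rfl
    have eY : ∀ i (h : i < N) (w : P), ((Y' i w : P) : W) = Y (i + 1) w := fun i h w => by
      simp only [Y', dif_pos h]
      rfl
    refine ih P X' Y' ?_ ?_ ?_ ?_ ?_
    · intro i hi
      ext w
      have := LinearMap.congr_fun (hX (i + 1) (by omega)) (w : W)
      rw [Module.End.mul_apply, eX i hi, eX i hi]
      simpa using this
    · intro i hi
      ext w
      have := LinearMap.congr_fun (hY (i + 1) (by omega)) (w : W)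
      rw [Module.End.mul_apply, eY i hi, eY i hi]
      simpa using this
    · intro i hi
      ext w
      have := LinearMap.congr_fun (hXY (i + 1) (by omega)) (w : W)
      rw [Module.End.mul_apply, eX i hi, eY i hi, LinearMap.neg_apply, Submodule.coe_neg, Module.End.mul_apply,
        eY i hi, eX i hi]
      simpa using this
    · intro i j hij hj
      ext w
      have := LinearMap.congr_fun (hcX (i + 1) (j + 1) (by omega) (by omega)) (w : W)
      rw [Module.End.mul_apply, eX i (by omega), eX j hj, Module.End.mul_apply, eX j hj, eX i (by omega)]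
      simpa using this
    · intro i j hij hj
      ext w
      have := LinearMap.congr_fun (hcY (i + 1) (j + 1) (by omega) (by omega)) (w : W)
      rw [Module.End.mul_apply, eX i (by omega), eY j hj, Module.End.mul_apply, eY j hj, eX i (by omega)]
      simpa using this

/-- Elements `x i`, `y i` (`i < N`) of square `z`, with the commutation relations needed above. -/
structure Prs {Γ : Type*} [Group Γ] (z : Γ) (N : ℕ) (x y : ℕ → Γ) : Prop where
  xx : ∀ i < N, x i * x i = z
  yy : ∀ i < N, y i * y i = z
  anti : ∀ i < N, x i * y i = z * (y i * x i)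
  cx : ∀ i j, i < j → j < N → x i * x j = x j * x i
  cy : ∀ i j, i < j → j < N → x i * y j = y j * x i

theorem Prs.map {Γ Δ : Type*} [Group Γ] [Group Δ] {z : Γ} {N : ℕ} {x y : ℕ → Γ} (h : Prs z N x y) (f : Γ →* Δ) :
    Prs (f z) N (fun i => f (x i)) (fun i => f (y i)) where
  xx i hi := by rw [← map_mul, h.xx i hi]
  yy i hi := by rw [← map_mul, h.yy i hi]
  anti i hi := by rw [← map_mul, h.anti i hi, map_mul, map_mul]
  cx i j hij hj := by rw [← map_mul, h.cx i j hij hj, map_mul]
  cy i j hij hj := by rw [← map_mul, h.cy i j hij hj, map_mul]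

open Cfsg

/-- a central involution with `χ z = - χ 1` acts as `-1` -/
theorem rho_eq_neg_one {H : Type*} [Group H] {n : ℕ} (ρ : Representation ℂ H (Fin n → ℂ)) {z : H} (hz2 : z * z = 1)
    (h : ρ.character z = -ρ.character 1) : ρ z = -1 := by
  have h1 : ρ z * ρ z = 1 := by rw [← map_mul, hz2, map_one]
  set e : Module.End ℂ (Fin n → ℂ) := (2 : ℂ)⁻¹ • (1 + ρ z) with he
  have hid : IsIdempotentElem e := by
    show e * e = e
    rw [he, smul_mul_smul_comm, mul_add, add_mul, add_mul, h1, one_mul, mul_one, one_mul]
    match_scalars <;> ring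
  have h2 := (LinearMap.IsIdempotentElem.isProj_range e hid).trace
  have h3 : LinearMap.trace ℂ _ e = 0 := by
    rw [he, map_smul, map_add]
    have e1 : LinearMap.trace ℂ _ (ρ z) = ρ.character z := rfl
    have e2 : LinearMap.trace ℂ _ (1 : Module.End ℂ (Fin n → ℂ)) = ρ.character 1 := by
      show _ = LinearMap.trace ℂ _ (ρ 1)
      rw [map_one ρ]
    rw [e1, e2, h, add_neg_cancel, smul_zero]
  rw [h3] at h2
  have h4 : Module.finrank ℂ (LinearMap.range e) = 0 := by exact_mod_cast h2.symm
  rw [Submodule.finrank_eq_zero, LinearMap.range_eq_bot] at h4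
  have h5 : (1 : Module.End ℂ (Fin n → ℂ)) + ρ z = 0 := by
    have h6 : (2 : ℂ) • e = 1 + ρ z := by
      rw [he, smul_smul]
      norm_num
    rw [← h6, h4, smul_zero]
  exact (eq_neg_of_add_eq_zero_right h5)

theorem pow_dvd_charDegree {H : Type*} [Group H] [Finite H] {z : H} {N : ℕ} {x y : ℕ → H} (h : Prs z N x y)
    (hz2 : z * z = 1) (χ : IrrCharacter H) (hχ : (χ : H → ℂ) z = -(χ : H → ℂ) 1) :
    2 ^ N ∣ charDegree (χ : H → ℂ) := by
  obtain ⟨n, ρ, -, hρ⟩ := χ.2
  have h1 : ρ z = -1 := rho_eq_neg_one ρ hz2 (by rw [hρ, hχ])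
  have h2 := pow_dvd_finrank N (Fin n → ℂ) (fun i => ρ (x i)) (fun i => ρ (y i))
    (fun i hi => by rw [← map_mul, h.xx i hi, h1]) (fun i hi => by rw [← map_mul, h.yy i hi, h1])
    (fun i hi => by
      show ρ (x i) * ρ (y i) = -(ρ (y i) * ρ (x i))
      rw [← map_mul, h.anti i hi, map_mul, h1, map_mul]
      ext w
      simp)
    (fun i j hij hj => by
      show ρ (x i) * ρ (x j) = ρ (x j) * ρ (x i)
      rw [← map_mul, h.cx i j hij hj, map_mul])
    (fun i j hij hj => by
      show ρ (x i) * ρ (y j) = ρ (y j) * ρ (x i)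
      rw [← map_mul, h.cy i j hij hj, map_mul])
  have h3 : charDegree (χ : H → ℂ) = n := by
    have h4 := H686.CharKit.charDegree_irr χ
    have h5 : (χ : H → ℂ) 1 = (n : ℂ) := by
      rw [← hρ, Representation.char_one]
      simp
    rw [h5] at h4
    exact_mod_cast h4
  rw [h3]
  simpa using h2

end Cfsg.Agent.H245.DM
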