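import Mathlib
import Cfsg.Agent.H63.SpinCov
import Cfsg.Agent.H245.DM.Pairs

/-!
# S4907, task DM30: anticommuting pairs in the spin group (helper245)

`exists_prs`: for a form with a Witt frame of `m = 2 k + 2` planes (`k ≥ 1`), the group `LL Q` contains `2 k` pairs as
in `Prs`, for the element `-1`.
-/

set_option autoImplicit false

namespace Cfsg.Agent.H245.DM

open QuadraticMap CliffordAlgebra
open Cfsg.Agent.LieClassical Cfsg.Agent.LieClassical.OrthCore Cfsg.Agent.LieClassical.OrthTrans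
open Cfsg.Agent.TitsThree Cfsg.Agent.TitsThree.Siegel Cfsg.Agent.TitsThree.SiegelGen Cfsg.Agent.TitsThree.KSideO
open Cfsg.Agent.TitsThree.WBridge
open Cfsg.Agent.H51.Mult Cfsg.Agent.H63.Spin

section

variable {F V : Type*} [Field F] [AddCommGroup V] [Module F V] {Q : QuadraticForm F V}

theorem pp_comm {u v w x : V} (hu : Q u ≠ 0) (huv : Q u = Q v) (hw : Q w ≠ 0) (hwx : Q w = Q x)
    (h1 : polar Q u w = 0) (h2 : polar Q u x = 0) (h3 : polar Q v w = 0) (h4 : polar Q v x = 0) :
    (pp u v hu huv * pp w x hw hwx : Am Q) = pp w x hw hwx * pp u v hu huv := by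
  have h := conj_pp (x := pp u v hu huv) (pp_mem_Cov _ _) (mul_mem (refl_mem_O hu) (refl_mem_O (huv ▸ hu))) (u := w)
    (v := x) hw hwx (rr_orth _ _ h1 h3) (rr_orth _ _ h2 h4) hw hwx
  rwa [mul_inv_eq_iff_eq_mul] at h

theorem pp_anti (hQ : Nondeg Q) (h2 : (2 : F) ≠ 0) {u v w : V} (hu : Q u ≠ 0) (huv : Q u = Q v) (hv : Q v ≠ 0)
    (hvw : Q v = Q w) (o1 : polar Q u v = 0) (o2 : polar Q v w = 0) (o3 : polar Q u w = 0) :
    (pp u v hu huv * pp v w hv hvw : Am Q) = mm * (pp v w hv hvw * pp u v hu huv) := by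
  apply Cov.ext h2 hQ (mul_mem (pp_mem_Cov _ _) (pp_mem_Cov _ _))
    (mul_mem mm_mem_Cov (mul_mem (pp_mem_Cov _ _) (pp_mem_Cov _ _)))
  show (Q u)⁻¹ • (ι Q u * ι Q v) * ((Q v)⁻¹ • (ι Q v * ι Q w)) =
    (-1 : CliffordAlgebra Q) * ((Q v)⁻¹ • (ι Q v * ι Q w) * ((Q u)⁻¹ • (ι Q u * ι Q v)))
  have e1 : ι Q u * ι Q v * (ι Q v * ι Q w) = (Q v) • (ι Q u * ι Q w) := by
    rw [mul_assoc, ← mul_assoc (ι Q v), ι_sq, smul_mul_assoc, one_mul, mul_smul_comm]
  have e2 : ι Q v * ι Q w * (ι Q u * ι Q v) = -((Q v) • (ι Q u * ι Q w)) := by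
    calc ι Q v * ι Q w * (ι Q u * ι Q v) = ι Q v * (ι Q w * ι Q u) * ι Q v := by simp only [mul_assoc]
      _ = ι Q v * (-(ι Q u * ι Q w)) * ι Q v := by rw [ι_orth o3, _root_.neg_neg]
      _ = -((ι Q v * ι Q u) * (ι Q w * ι Q v)) := by noncomm_ring
      _ = -((-(ι Q u * ι Q v)) * (-(ι Q v * ι Q w))) := by
        rw [ι_orth o1, ι_orth o2, _root_.neg_neg, _root_.neg_neg]
      _ = -((ι Q u * ι Q v) * (ι Q v * ι Q w)) := by rw [neg_mul_neg]
      _ = _ := by rw [e1]
  rw [smul_mul_smul_comm, smul_mul_smul_comm, e1, e2, smul_neg, neg_one_mul, _root_.neg_neg, mul_comm (Q u)⁻¹]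

end

section

variable {F V : Type*} [Field F] [AddCommGroup V] [Module F V] {Q : QuadraticForm F V} {m : ℕ} (W : WFrame (PO Q) m)

theorem polar_sv_zero {i j : Fin m} {a b : F} (h : i ≠ j ∨ a + b = 0) : polar Q (sv W i a) (sv W j b) = 0 := by
  by_cases hij : i = j
  · subst hij
    rw [polar_sv]
    exact h.resolve_left (fun h => h rfl)
  · exact polar_sv_ne W hij a b

include W in
theorem exists_prs (hG : Good Q) (h2 : (2 : F) ≠ 0) {k : ℕ} (hk : 1 ≤ k) (hm : m = 2 * k + 2) :
    ∃ (z : LL Q) (x y : ℕ → LL Q), (z.1.1 : Am Q) = mm ∧ Prs z (2 * k) x y := by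
  classical
  have hm3 : 3 ≤ m := by omega
  have hQ := hG.nondeg
  obtain ⟨z, hz, ez⟩ := exists_mm W h2 hQ hm3
  -- the elements
  have hex : ∀ (i j : Fin m) (a : F), ∃ g : LL Q, ∀ (_ : i ≠ j) (ha : a ≠ 0),
      (g.1.1 : Am Q) = pp (sv W i a) (sv W j a) (by rwa [Q_sv]) (by rw [Q_sv, Q_sv]) := by
    intro i j a
    by_cases h : i ≠ j ∧ a ≠ 0
    · obtain ⟨x, hx, ex⟩ := pp_sv_mem W h2 hQ hm3 h.1 h.2
      exact ⟨⟨x, hx⟩, fun _ _ => ex⟩
    · exact ⟨1, fun h1 h3 => absurd ⟨h1, h3⟩ h⟩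
  choose g hg using hex
  let b : ℕ → ℕ := fun n => if n < k then n else n - k
  let a : ℕ → F := fun n => if n < k then 1 else -1
  let p : ℕ → Fin m := fun n => if h : 2 * b n < m then ⟨2 * b n, h⟩ else ⟨0, by omega⟩
  let q : ℕ → Fin m := fun n => if h : 2 * b n + 1 < m then ⟨2 * b n + 1, h⟩ else ⟨0, by omega⟩
  let r : ℕ → Fin m := fun n => if h : 2 * b n + 2 < m then ⟨2 * b n + 2, h⟩ else ⟨0, by omega⟩
  have hb : ∀ n < 2 * k, b n < k := fun n hn => by
    simp only [b]
    split_ifs <;> omega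
  have ha : ∀ n, a n ≠ 0 := fun n => by
    simp only [a]
    split_ifs
    · exact one_ne_zero
    · exact neg_ne_zero.2 one_ne_zero
  have pv : ∀ n < 2 * k, ((p n : Fin m) : ℕ) = 2 * b n := fun n hn => by
    have := hb n hn
    simp only [p]
    rw [dif_pos (by omega)]
  have qv : ∀ n < 2 * k, ((q n : Fin m) : ℕ) = 2 * b n + 1 := fun n hn => by
    have := hb n hn
    simp only [q]
    rw [dif_pos (by omega)]
  have rv : ∀ n < 2 * k, ((r n : Fin m) : ℕ) = 2 * b n + 2 := fun n hn => by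
    have := hb n hn
    simp only [r]
    rw [dif_pos (by omega)]
  have pq : ∀ n < 2 * k, p n ≠ q n := fun n hn h => by
    have := congrArg Fin.val h
    rw [pv n hn, qv n hn] at this
    omega
  have qr : ∀ n < 2 * k, q n ≠ r n := fun n hn h => by
    have := congrArg Fin.val h
    rw [qv n hn, rv n hn] at this
    omega
  have pr' : ∀ n < 2 * k, p n ≠ r n := fun n hn h => by
    have := congrArg Fin.val h
    rw [pv n hn, rv n hn] at this
    omega
  -- different indices
  have sep : ∀ n n', n < n' → n' < 2 * k → b n < b n' ∨ a n + a n' = 0 := fun n n' h h' => by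
    simp only [a, b]
    by_cases h1 : n < k
    · by_cases h3 : n' < k
      · left
        rw [if_pos h1, if_pos h3]
        exact h
      · right
        rw [if_pos h1, if_neg h3]
        ring
    · left
      rw [if_neg h1, if_neg (by omega : ¬ n' < k)]
      omega
  have o1 : ∀ n n', n < n' → n' < 2 * k → polar Q (sv W (p n) (a n)) (sv W (p n') (a n')) = 0 := fun n n' h h' => by
    apply polar_sv_zero
    rcases sep n n' h h' with h3 | h3
    · left
      intro h4
      have := congrArg Fin.val h4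
      rw [pv n (by omega), pv n' h'] at this
      omega
    · exact Or.inr h3
  have o2 : ∀ n n', n < n' → n' < 2 * k → polar Q (sv W (p n) (a n)) (sv W (q n') (a n')) = 0 := fun n n' h h' => by
    apply polar_sv_zero
    rcases sep n n' h h' with h3 | h3
    · left
      intro h4
      have := congrArg Fin.val h4
      rw [pv n (by omega), qv n' h'] at this
      omega
    · exact Or.inr h3
  have o3 : ∀ n n', n < n' → n' < 2 * k → polar Q (sv W (p n) (a n)) (sv W (r n') (a n')) = 0 := fun n n' h h' => by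
    apply polar_sv_zero
    rcases sep n n' h h' with h3 | h3
    · left
      intro h4
      have := congrArg Fin.val h4
      rw [pv n (by omega), rv n' h'] at this
      omega
    · exact Or.inr h3
  have o4 : ∀ n n', n < n' → n' < 2 * k → polar Q (sv W (q n) (a n)) (sv W (p n') (a n')) = 0 := fun n n' h h' => by
    apply polar_sv_zero
    rcases sep n n' h h' with h3 | h3
    · left
      intro h4
      have := congrArg Fin.val h4
      rw [qv n (by omega), pv n' h'] at this
      omega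
    · exact Or.inr h3
  have o5 : ∀ n n', n < n' → n' < 2 * k → polar Q (sv W (q n) (a n)) (sv W (q n') (a n')) = 0 := fun n n' h h' => by
    apply polar_sv_zero
    rcases sep n n' h h' with h3 | h3
    · left
      intro h4
      have := congrArg Fin.val h4
      rw [qv n (by omega), qv n' h'] at this
      omega
    · exact Or.inr h3
  have o6 : ∀ n n', n < n' → n' < 2 * k → polar Q (sv W (q n) (a n)) (sv W (r n') (a n')) = 0 := fun n n' h h' => by
    apply polar_sv_zero
    rcases sep n n' h h' with h3 | h3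
    · left
      intro h4
      have := congrArg Fin.val h4
      rw [qv n (by omega), rv n' h'] at this
      omega
    · exact Or.inr h3
  refine ⟨⟨z, hz⟩, fun n => g (p n) (q n) (a n), fun n => g (q n) (r n) (a n), ez, ?_⟩
  refine ⟨?_, ?_, ?_, ?_, ?_⟩
  · intro i hi
    apply Subtype.ext
    apply Subtype.ext
    show ((g (p i) (q i) (a i)).1.1 * (g (p i) (q i) (a i)).1.1 : Am Q) = z.1
    rw [hg _ _ _ (pq i hi) (ha i), ez]
    exact sq_pp' hQ h2 _ _ (polar_sv_ne W (pq i hi) _ _)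
  · intro i hi
    apply Subtype.ext
    apply Subtype.ext
    show ((g (q i) (r i) (a i)).1.1 * (g (q i) (r i) (a i)).1.1 : Am Q) = z.1
    rw [hg _ _ _ (qr i hi) (ha i), ez]
    exact sq_pp' hQ h2 _ _ (polar_sv_ne W (qr i hi) _ _)
  · intro i hi
    apply Subtype.ext
    apply Subtype.ext
    show ((g (p i) (q i) (a i)).1.1 * (g (q i) (r i) (a i)).1.1 : Am Q) =
      z.1 * ((g (q i) (r i) (a i)).1.1 * (g (p i) (q i) (a i)).1.1)
    rw [hg _ _ _ (pq i hi) (ha i), hg _ _ _ (qr i hi) (ha i), ez]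
    exact pp_anti hQ h2 _ _ _ _ (polar_sv_ne W (pq i hi) _ _) (polar_sv_ne W (qr i hi) _ _)
      (polar_sv_ne W (pr' i hi) _ _)
  · intro i j hij hj
    apply Subtype.ext
    apply Subtype.ext
    show ((g (p i) (q i) (a i)).1.1 * (g (p j) (q j) (a j)).1.1 : Am Q) =
      ((g (p j) (q j) (a j)).1.1 * (g (p i) (q i) (a i)).1.1)
    rw [hg _ _ _ (pq i (by omega)) (ha i), hg _ _ _ (pq j hj) (ha j)]
    exact pp_comm _ _ _ _ (o1 i j hij hj) (o2 i j hij hj) (o4 i j hij hj) (o5 i j hij hj)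
  · intro i j hij hj
    apply Subtype.ext
    apply Subtype.ext
    show ((g (p i) (q i) (a i)).1.1 * (g (q j) (r j) (a j)).1.1 : Am Q) =
      ((g (q j) (r j) (a j)).1.1 * (g (p i) (q i) (a i)).1.1)
    rw [hg _ _ _ (pq i (by omega)) (ha i), hg _ _ _ (qr j hj) (ha j)]
    exact pp_comm _ _ _ _ (o2 i j hij hj) (o3 i j hij hj) (o5 i j hij hj) (o6 i j hij hj)

end

end Cfsg.Agent.H245.DM
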