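import Mathlib
import Cfsg.Agent.H63.Plus
import Cfsg.Agent.H264.CoverOver
import Cfsg.Agent.H245.DM.SpinPairs

/-!
# S4907, task DM30: the half spin groups contain the anticommuting pairs (helper245)
-/

set_option autoImplicit false

namespace Cfsg.Agent.H245.DM

open QuadraticMap CliffordAlgebra
open Cfsg.Agent.LieClassical Cfsg.Agent.LieClassical.OrthCore Cfsg.Agent.LieClassical.OrthTrans
open Cfsg.Agent.TitsThree Cfsg.Agent.TitsThree.Siegel Cfsg.Agent.TitsThree.SiegelGen Cfsg.Agent.TitsThree.KSideO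
open Cfsg.Agent.LieClassical.OrthForms
open Cfsg.Agent.TitsThree.WBridge Cfsg.Agent.TitsThree.StdData
open Cfsg.Agent.Nodes.WittInst
open Cfsg.Agent.H51.Mult Cfsg.Agent.H63.Spin Cfsg.Agent.H63.Asm Cfsg.Agent.H63.Plus

universe u v

theorem ker_prL_eq {F : Type u} [Field F] [Finite F] (h2 : (2 : F) ≠ 0) {m : ℕ} (hm : 4 ≤ m) (hev : Even m)
    (hG : Good (plusForm m F)) (h4 : Nat.card (spi hG).ker = 4) {z : LL (plusForm m F)}
    (hz : (z.1.1 : Am (plusForm m F)) = mm) (K : Subgroup (LL (plusForm m F))) (hK : Nat.card K = 2) (hzK : z ∈ K) :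
    K = (prL hG).ker := by
  have := finite_LL hG h2
  obtain ⟨k, hk⟩ := hev
  obtain ⟨w, ⟨x, hx, hx'⟩, hwv, -⟩ := exists_z_even (wplus m F) hG h2 (by omega) (k := k) (by omega) V0_plus
  -- the kernel of `prL` has order two
  have hle : (prL hG).ker ≤ (spi hG).ker := fun y hy => by
    rw [MonoidHom.mem_ker] at hy ⊢
    show toPOmega hG (prL hG y) = 1
    rw [hy, map_one]
  have hzp : z ∈ (prL hG).ker := by
    rw [MonoidHom.mem_ker]
    apply Subtype.ext
    show (z.1.1 : Am (plusForm m F)).2 = 1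
    rw [hz]
    rfl
  have hz1 : z ≠ 1 := by
    rintro rfl
    exact mm_ne (Q := plusForm m F) h2 hz.symm
  have hx1 : (⟨x, hx⟩ : LL (plusForm m F)) ∈ (spi hG).ker := spi_eq_one hG (fun v => by
    show (x : Am (plusForm m F)).2 v = -v
    rw [hx', hwv])
  have hx2 : (⟨x, hx⟩ : LL (plusForm m F)) ∉ (prL hG).ker := by
    intro h
    rw [MonoidHom.mem_ker] at h
    have h3 : (x : Am (plusForm m F)).2 = 1 := congrArg Subtype.val h
    have h5 := (wplus m F).ef ⟨0, by omega⟩ ⟨0, by omega⟩
    have h6 : ∀ v : (Fin m ⊕ Fin m) → F, v = 0 := by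
      intro v
      have h7 := hwv v
      rw [← hx', h3] at h7
      have h8 : v = -v := h7
      have h9 : (2 : F) • v = 0 := by
        rw [two_smul]
        nth_rw 1 [h8]
        exact neg_add_cancel v
      exact (smul_eq_zero.1 h9).resolve_left h2
    rw [h6 ((wplus m F).e ⟨0, by omega⟩), (HO (plusForm m F)).zero_left, if_pos rfl] at h5
    exact zero_ne_one h5
  have hd : Nat.card (prL hG).ker ∣ 4 := h4 ▸ Subgroup.card_dvd_of_le hle
  have hne4 : Nat.card (prL hG).ker ≠ 4 := by
    intro h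
    apply hx2
    have h7 : (prL hG).ker = (spi hG).ker := Subgroup.eq_of_le_of_card_ge hle (by rw [h4, h])
    rw [h7]
    exact hx1
  have hne1 : Nat.card (prL hG).ker ≠ 1 := by
    intro h
    rw [Subgroup.card_eq_one] at h
    rw [h, Subgroup.mem_bot] at hzp
    exact hz1 hzp
  have hc2 : Nat.card (prL hG).ker = 2 := by
    have hp4 : (4 : ℕ) = 2 ^ 2 := by norm_num
    rw [hp4] at hd
    obtain ⟨j, hj, hj'⟩ := (Nat.dvd_prime_pow Nat.prime_two).1 hd
    rcases (by omega : j = 0 ∨ j = 1 ∨ j = 2) with rfl | rfl | rfl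
    · exact absurd hj' hne1
    · simpa using hj'
    · exact absurd hj' hne4
  -- both are generated by `z`
  have key : ∀ L : Subgroup (LL (plusForm m F)), Nat.card L = 2 → z ∈ L → Subgroup.zpowers z = L := by
    intro L hL hzL
    have h7 : Subgroup.zpowers z ≤ L := by rwa [Subgroup.zpowers_le]
    refine Subgroup.eq_of_le_of_card_ge h7 ?_
    rw [hL, Nat.card_zpowers]
    have h8 : orderOf z ∣ 2 := by
      have := Subgroup.orderOf_dvd_natCard L hzL
      rwa [hL] at this
    rcases (Nat.dvd_prime Nat.prime_two).1 h8 with h9 | h9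
    · rw [orderOf_eq_one_iff] at h9
      exact absurd h9 hz1
    · omega
  rw [← key K hK hzK, ← key _ hc2 hzp]

/-- **A perfect group with centre of order two and central quotient `PΩ⁺_{2m}(q)`, `q` odd and `m` even, which is not
`Ω⁺_{2m}(q)`, contains the `m - 2` pairs, for the central involution.** -/
theorem exists_prs_of_not_omega {F : Type u} [Field F] [Finite F] (h2 : (2 : F) ≠ 0) {m : ℕ} (hm : 4 ≤ m)
    (hev : Even m) {H : Type v} [Group H] [Finite H] (hH : commutator H = ⊤)
    (eH : H ⧸ Subgroup.center H ≃* Cfsg.POmega F (Cfsg.quadFormPlus m F)) (cH : Nat.card (Subgroup.center H) = 2)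
    (hn : ¬ Nonempty (H ≃* Cfsg.Omega F (Cfsg.quadFormPlus m F))) :
    ∃ (z : H) (x y : ℕ → H), z ∈ Subgroup.center H ∧ z ≠ 1 ∧ z * z = 1 ∧ Prs z (m - 2) x y := by
  have hSM := even_rank h2 hm hev
  rw [← coe_plusForm] at eH hn hSM
  have hG : Good (plusForm m F) := good_plus F (by omega)
  have := finite_PO hG
  have := finite_LL hG h2
  have hpce := pce hG h2
  obtain ⟨k, hk⟩ := hev
  have hge := four_le hG h2 (wplus m F) (by omega)
    (exists_z_even (wplus m F) hG h2 (by omega) (k := k) (by omega) V0_plus)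
  have hA : Nat.card (Multiplicative (ZMod 2 × ZMod 2)) = 4 := by
    rw [Nat.card_eq_fintype_card]
    rfl
  have h4 : Nat.card (spi hG).ker = 4 := by
    have h5 := H264.CoverOver.card_ker_dvd hSM hpce.perf (spi hG) hpce.surj hpce.cen
    rw [hA] at h5
    have := Nat.le_of_dvd (by norm_num) h5
    omega
  -- the map onto `H`
  let π : H →* Cfsg.POmega F ⇑(plusForm m F) := eH.toMonoidHom.comp (QuotientGroup.mk' (Subgroup.center H))
  have hπs : Function.Surjective π := eH.surjective.comp (QuotientGroup.mk'_surjective _)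
  have hπk : ∀ x, π x = 1 ↔ x ∈ Subgroup.center H := by
    intro x
    show eH (QuotientGroup.mk' (Subgroup.center H) x) = 1 ↔ _
    rw [MulEquiv.map_eq_one_iff, QuotientGroup.mk'_apply, QuotientGroup.eq_one_iff]
  have hstem : Cfsg.IsStemExtension π :=
    ⟨hπs, fun x hx => (hπk x).1 hx, by rw [hH]; exact le_top⟩
  obtain ⟨φ, hφ, hφ'⟩ := H264.CoverOver.exists_cover (perfect_PO hG) hSM (spi hG) hpce.toStem
    (by rw [h4, hA]) π hstem
  obtain ⟨z, x, y, hz, hprs⟩ := exists_prs (wplus m F) hG h2 (k := k - 1) (by omega) (by omega)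
  have hm2 : 2 * (k - 1) = m - 2 := by omega
  rw [hm2] at hprs
  have hzz : z * z = 1 := by
    apply Subtype.ext
    apply Subtype.ext
    show (z.1.1 * z.1.1 : Am (plusForm m F)) = 1
    rw [hz, mm_sq]
  have hz1 : spi hG z = 1 := spi_eq_one' hG (by rw [hz]; rfl)
  refine ⟨φ z, fun i => φ (x i), fun i => φ (y i), ?_, ?_, ?_, hprs.map φ⟩
  · rw [← hπk, hφ', hz1]
  · intro h1
    apply hn
    have hcard : Nat.card φ.ker = 2 := by
      have e1 := H264.CoverOver.card_eq_of_surj hφ
      have e2 := H264.CoverOver.card_eq_of_surj hpce.surj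
      have e3 := H264.CoverOver.card_eq_of_surj hπs
      have e4 : π.ker = Subgroup.center H := by
        ext x
        exact hπk x
      rw [h4] at e2
      rw [e4, cH] at e3
      rw [e2, e3] at e1
      have hpos : 0 < Nat.card (Cfsg.POmega F ⇑(plusForm m F)) := Nat.card_pos
      have e5 : Nat.card (Cfsg.POmega F ⇑(plusForm m F)) * 4 =
          Nat.card (Cfsg.POmega F ⇑(plusForm m F)) * (2 * Nat.card φ.ker) := by rw [e1]; ring
      have e6 := Nat.eq_of_mul_eq_mul_left hpos e5
      omega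
    have hker : φ.ker = (prL hG).ker := ker_prL_eq h2 hm ⟨k, hk⟩ hG h4 hz _ hcard h1
    exact ⟨(QuotientGroup.quotientKerEquivOfSurjective φ hφ).symm.trans
      ((QuotientGroup.quotientMulEquivOfEq hker).trans
        ((QuotientGroup.quotientKerEquivOfSurjective (prL hG) (prL_surjective hG h2)).trans (toOmega hG)))⟩
  · rw [← map_mul, hzz, map_one]

end Cfsg.Agent.H245.DM
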