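import Mathlib
import Cfsg.Agent.H686.CharKit
import Cfsg.Agent.Characters.Central
import Cfsg.Agent.H245.DM.Scal

/-!
# S4907, task DM30: the two-part of a faithful character (helper245)

`exists_irr_two_part_le`: if the finite group `G` has a representation of dimension `n > 0` over a field of
characteristic `≠ 2` in which the central involution `z` is `-1`, then some complex irreducible character `χ` with
`χ z = - χ 1` has a degree whose `2`-part is at most `n`.
-/

set_option autoImplicit false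

namespace Cfsg.Agent.H245.DM

open Module Cfsg Cfsg.Agent.Characters Cfsg.Agent.Characters.Core
open Cfsg.Agent.H686.CharKit
open scoped ComplexConjugate

universe u v w

theorem exists_complex_char {A : Type u} [Group A] [Finite A] {k : Type v} [Field k] (h2 : (2 : k) ≠ 0)
    (l : A →* kˣ) {z : A} (hz : l z = -1) : ∃ μ : A →* ℂˣ, μ z = -1 := by
  have hfin : Finite l.range := Finite.of_surjective _ l.rangeRestrict_surjective
  have hz1 : l.rangeRestrict z ≠ 1 := by
    intro h
    have h1 : l z = 1 := congrArg Subtype.val h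
    rw [hz] at h1
    apply h2
    have h3 : (-1 : k) = 1 := congrArg Units.val h1
    linear_combination -h3
  have hne : NeZero (Monoid.exponent l.range) := ⟨Monoid.exponent_ne_zero_of_finite⟩
  obtain ⟨φ, hφ⟩ := CommGroup.exists_apply_ne_one_of_hasEnoughRootsOfUnity l.range ℂ hz1
  refine ⟨φ.comp l.rangeRestrict, ?_⟩
  have hsq : (φ (l.rangeRestrict z)) ^ 2 = 1 := by
    rw [← map_pow]
    have : (l.rangeRestrict z) ^ 2 = 1 := by
      apply Subtype.ext
      show (l z) ^ 2 = 1
      rw [hz]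
      norm_num
    rw [this, map_one]
  have hsq' : ((φ (l.rangeRestrict z) : ℂˣ) : ℂ) * ((φ (l.rangeRestrict z) : ℂˣ) : ℂ) = 1 := by
    rw [← pow_two, ← Units.val_pow_eq_pow_val, hsq, Units.val_one]
  rcases mul_self_eq_one_iff.1 hsq' with h | h
  · exact absurd (Units.ext h) hφ
  · exact Units.ext h

/-- central involutions in irreducible characters -/
theorem central_involution {G : Type u} [Group G] {χ : G → ℂ} (hχ : IsIrrCharacter G χ) {z : G}
    (hz : z ∈ Subgroup.center G) (hzz : z * z = 1) : χ z = -χ 1 ∨ ∀ g, χ (g * z) = χ g := by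
  obtain ⟨n, ρ, hirr, rfl⟩ := hχ
  obtain ⟨c, hc⟩ := Cfsg.Agent.Characters.Central.exists_smul_of_comm ρ hirr (ρ z) (fun g => by
    rw [← map_mul, ← map_mul, (Subgroup.mem_center_iff.1 hz g)])
  have hpos := Cfsg.Agent.Characters.Central.finrank_pos_of_irr ρ hirr
  have hnt : Nontrivial (Fin n → ℂ) := Module.nontrivial_of_finrank_pos hpos
  have h1 : ρ z * ρ z = 1 := by rw [← map_mul, hzz, map_one]
  rw [hc, smul_mul_smul_comm, one_mul] at h1
  obtain ⟨v, hv⟩ := exists_ne (0 : Fin n → ℂ)
  have h3 : c * c = 1 := by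
    have h4 := LinearMap.congr_fun h1 v
    rw [LinearMap.smul_apply, Module.End.one_apply] at h4
    have h5 : (c * c - 1) • v = 0 := by rw [sub_smul, h4, one_smul, sub_self]
    exact sub_eq_zero.1 ((smul_eq_zero.1 h5).resolve_right hv)
  rcases mul_self_eq_one_iff.1 h3 with h | h
  · right
    intro g
    show LinearMap.trace ℂ _ (ρ (g * z)) = LinearMap.trace ℂ _ (ρ g)
    rw [map_mul, hc, h, one_smul, mul_one]
  · left
    show LinearMap.trace ℂ _ (ρ z) = -LinearMap.trace ℂ _ (ρ 1)
    rw [hc, h, map_smul, map_one ρ, neg_smul, one_smul]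

theorem exists_irr_of_linear {G : Type u} [Group G] [Finite G] {z : G} (hz : z ∈ Subgroup.center G)
    (hzz : z * z = 1) (A : Subgroup G) (hzA : z ∈ A) (μ : A →* ℂˣ) (hμ : μ ⟨z, hzA⟩ = -1) {b : ℕ}
    (hb : ¬ 2 ^ b ∣ A.index) :
    ∃ χ : IrrCharacter G, (χ : G → ℂ) z = -(χ : G → ℂ) 1 ∧ ¬ 2 ^ b ∣ charDegree (χ : G → ℂ) := by
  classical
  have := Fintype.ofFinite G
  have : Finite (IrrCharacter G) := Core.finite_irr
  have := Fintype.ofFinite (IrrCharacter G)
  have := Fintype.ofFinite A
  by_contra hcon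
  push Not at hcon
  -- the multiplicities
  have hm : ∀ χ : IrrCharacter G, ∃ n : ℕ, classInner (fun a : A => (χ : G → ℂ) a) (fun a : A => ((μ a : ℂˣ) : ℂ)) = n :=
    fun χ => classInner_isNat (isCharacter_comp A.subtype (isIrr_isCharacter χ.2)) (Linear.isCharacter_hom μ)
  choose m hm using hm
  have hcA : (Nat.card A : ℂ) ≠ 0 := Nat.cast_ne_zero.2 Nat.card_pos.ne'
  -- nonzero multiplicities
  have hzero : ∀ χ : IrrCharacter G, ¬ (χ : G → ℂ) z = -(χ : G → ℂ) 1 → m χ = 0 := by
    intro χ hχ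
    have h1 := (central_involution χ.2 hz hzz).resolve_left hχ
    have h2 : (∑ a : A, (χ : G → ℂ) a * conj ((μ a : ℂˣ) : ℂ)) =
        -∑ a : A, (χ : G → ℂ) a * conj ((μ a : ℂˣ) : ℂ) := by
      nth_rewrite 1 [← Equiv.sum_comp (Equiv.mulRight (⟨z, hzA⟩ : A))]
      rw [← Finset.sum_neg_distrib]
      refine Finset.sum_congr rfl fun a _ => ?_
      show (χ : G → ℂ) ((a : G) * z) * conj ((μ (a * ⟨z, hzA⟩) : ℂˣ) : ℂ) = _
      have e : μ (a * ⟨z, hzA⟩) = -(μ a) := by rw [map_mul, hμ, mul_neg, mul_one]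
      rw [h1, e, Units.val_neg, map_neg, mul_neg]
    have h3 : (∑ a : A, (χ : G → ℂ) a * conj ((μ a : ℂˣ) : ℂ)) = 0 := by linear_combination (1 / 2 : ℂ) * h2
    have h4 := hm χ
    rw [classInner, h3, mul_zero] at h4
    exact_mod_cast h4.symm
  -- the sum
  have hsum : ∑ χ : IrrCharacter G, (charDegree (χ : G → ℂ) * m χ) = A.index := by
    have h1 : ((∑ χ : IrrCharacter G, (charDegree (χ : G → ℂ) * m χ) : ℕ) : ℂ) = (A.index : ℂ) := by
      rw [Nat.cast_sum]
      have e1 : ∀ χ : IrrCharacter G, ((charDegree (χ : G → ℂ) * m χ : ℕ) : ℂ) =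
          ∑ a : A, (Nat.card A : ℂ)⁻¹ * (conj ((μ a : ℂˣ) : ℂ) * ((χ : G → ℂ) a * conj ((χ : G → ℂ) 1))) := by
        intro χ
        rw [Nat.cast_mul, ← hm, classInner, charDegree_irr, ← mul_assoc, mul_comm ((χ : G → ℂ) 1), mul_assoc,
          Finset.mul_sum, Finset.mul_sum]
        refine Finset.sum_congr rfl fun a _ => ?_
        rw [← charDegree_irr χ, Complex.conj_natCast]
        ring
      rw [Finset.sum_congr rfl fun χ _ => e1 χ, Finset.sum_comm]
      have e2 : ∀ a : A, ∑ χ : IrrCharacter G, (Nat.card A : ℂ)⁻¹ *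
          (conj ((μ a : ℂˣ) : ℂ) * ((χ : G → ℂ) a * conj ((χ : G → ℂ) 1))) =
          if a = 1 then (Nat.card A : ℂ)⁻¹ * (Nat.card G : ℂ) else 0 := by
        intro a
        rw [← Finset.mul_sum, ← Finset.mul_sum, col_orth]
        by_cases ha : a = 1
        · subst ha
          rw [if_pos rfl, if_pos (by rw [OneMemClass.coe_one]), map_one]
          have h3 : Subgroup.centralizer ({(1 : G)} : Set G) = ⊤ := by
            rw [eq_top_iff]
            intro x _
            rw [Subgroup.mem_centralizer_iff]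
            intro y hy
            rw [Set.mem_singleton_iff] at hy
            subst hy
            rw [one_mul, mul_one]
          rw [h3, Nat.card_congr Subgroup.topEquiv.toEquiv]
          simp
        · rw [if_neg ha, if_neg, mul_zero, mul_zero]
          intro h
          apply ha
          rw [isConj_comm, isConj_one_right] at h
          exact Subtype.ext h
      rw [Finset.sum_congr rfl fun a _ => e2 a, Finset.sum_ite_eq' Finset.univ (1 : A), if_pos (Finset.mem_univ _),
        ← A.card_mul_index, Nat.cast_mul, ← mul_assoc, inv_mul_cancel₀ hcA, one_mul]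
    exact_mod_cast h1
  apply hb
  rw [← hsum]
  refine Finset.dvd_sum fun χ _ => ?_
  by_cases h : (χ : G → ℂ) z = -(χ : G → ℂ) 1
  · exact Dvd.dvd.mul_right (hcon χ h) _
  · rw [hzero χ h, mul_zero]
    exact dvd_zero _

theorem exists_scalar_hom {A : Type u} [Group A] {k : Type v} [Field k] {V : Type w} [AddCommGroup V] [Module k V]
    (ρ : A →* Module.End k V) {v : V} (hv : v ≠ 0) (h : ∀ a, ∃ c : k, ρ a v = c • v) :
    ∃ l : A →* kˣ, ∀ a, ρ a v = (l a : k) • v := by
  choose c hc using h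
  have hinj : ∀ a b : k, a • v = b • v → a = b := fun a b hab => by
    have h1 : (a - b) • v = 0 := by rw [sub_smul, hab, sub_self]
    exact sub_eq_zero.1 ((smul_eq_zero.1 h1).resolve_right hv)
  let f : A →* k :=
    { toFun := c
      map_one' := hinj _ _ (by rw [← hc, map_one, one_smul, Module.End.one_apply])
      map_mul' := fun a b => hinj _ _ (by rw [← hc, map_mul, Module.End.mul_apply, hc b, map_smul, hc a, smul_smul,
        mul_comm]) }
  exact ⟨f.toHomUnits, fun a => hc a⟩

/-- **The two-part of a character of a central involution.** -/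
theorem exists_irr_two_part_le {G : Type u} [Group G] [Finite G] {z : G} (hz : z ∈ Subgroup.center G)
    (hzz : z * z = 1) {F : Type v} [Field F] (h2 : (2 : F) ≠ 0) {V : Type w} [AddCommGroup V] [Module F V]
    [FiniteDimensional F V] [Nontrivial V] (ρ : G →* Module.End F V) (hρ : ρ z = -1) :
    ∃ χ : IrrCharacter G, (χ : G → ℂ) z = -(χ : G → ℂ) 1 ∧
      ∀ a, 2 ^ a ∣ charDegree (χ : G → ℂ) → 2 ^ a ≤ finrank F V := by
  have h2f : Fact (Nat.Prime 2) := ⟨Nat.prime_two⟩
  -- the Sylow subgroup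
  have hzP : IsPGroup 2 (Subgroup.zpowers z) := by
    rw [IsPGroup.iff_card]
    have h1 : orderOf z ∣ 2 ^ 1 := orderOf_dvd_of_pow_eq_one (by rw [pow_one, pow_two, hzz])
    obtain ⟨j, -, hj⟩ := (Nat.dvd_prime_pow Nat.prime_two).1 h1
    exact ⟨j, by rw [Nat.card_zpowers, hj]⟩
  obtain ⟨P, hP⟩ := hzP.exists_le_sylow
  have hzmem : z ∈ P := hP (Subgroup.mem_zpowers z)
  -- the representation over the algebraic closure
  let k := AlgebraicClosure F
  let ρ' : G →* Module.End k (TensorProduct F k V) :=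
    ((Module.End.baseChangeHom F k V : Module.End F V →ₐ[F] _) : Module.End F V →* _).comp ρ
  have hρ' : ρ' z = -1 := by
    show Module.End.baseChangeHom F k V (ρ z) = -1
    rw [hρ, map_neg, map_one]
  have hk2 : (2 : k) ≠ 0 := by
    have h3 : (algebraMap F k) 2 ≠ 0 := by
      rw [Ne, FaithfulSMul.algebraMap_eq_zero_iff]
      exact h2
    rwa [map_ofNat] at h3
  have hfr : finrank k (TensorProduct F k V) = finrank F V := Module.finrank_baseChange
  obtain ⟨A', hcA, hA', v, hv0, hv⟩ := exists_scalar_vector (k := k) (p := 2) (finrank F V) P P.isPGroup' _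
    (ρ'.comp (P : Subgroup G).subtype) hfr finrank_pos
  obtain ⟨b, hb⟩ := P.isPGroup'.index A'
  set A : Subgroup G := A'.map (P : Subgroup G).subtype with hA
  have hzA : z ∈ A := by
    refine ⟨⟨z, hzmem⟩, hcA ?_, rfl⟩
    rw [Subgroup.mem_center_iff]
    intro y
    exact Subtype.ext (Subgroup.mem_center_iff.1 hz y)
  obtain ⟨l, hl⟩ := exists_scalar_hom (ρ'.comp A.subtype) hv0 (fun a => by
    obtain ⟨a, x, hx, rfl⟩ := a
    exact hv x hx)
  have hlz : l ⟨z, hzA⟩ = -1 := by
    have h3 := hl ⟨z, hzA⟩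
    have h4 : (ρ'.comp A.subtype) ⟨z, hzA⟩ = -1 := hρ'
    rw [h4, LinearMap.neg_apply, Module.End.one_apply] at h3
    apply Units.ext
    have h5 : ((l ⟨z, hzA⟩ : k) + 1) • v = 0 := by rw [add_smul, one_smul, ← h3, neg_add_cancel]
    rw [Units.val_neg, Units.val_one]
    exact eq_neg_of_add_eq_zero_left ((smul_eq_zero.1 h5).resolve_right hv0)
  obtain ⟨μ, hμ⟩ := exists_complex_char hk2 l hlz
  have hidx : A.index = 2 ^ b * (P : Subgroup G).index := by rw [hA, Subgroup.index_map_subtype, hb]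
  have hnd : ¬ 2 ^ (b + 1) ∣ A.index := by
    rw [hidx, pow_succ]
    intro h
    exact P.not_dvd_index (Nat.dvd_of_mul_dvd_mul_left (by positivity) h)
  obtain ⟨χ, hχ, hχ'⟩ := exists_irr_of_linear hz hzz A hzA μ hμ hnd
  refine ⟨χ, hχ, fun a ha => ?_⟩
  have hab : a ≤ b := by
    by_contra hcon
    exact hχ' ((pow_dvd_pow 2 (by omega)).trans ha)
  calc 2 ^ a ≤ 2 ^ b := Nat.pow_le_pow_right (by norm_num) hab
    _ = A'.index := hb.symm
    _ ≤ _ := hA'

end Cfsg.Agent.H245.DM
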